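import Mathlib.RingTheory.KrullDimension.Basic
import Mathlib.RingTheory.KrullDimension.Zero
import Mathlib.RingTheory.Finiteness.Ideal
import Mathlib.RingTheory.Ideal.MinimalPrime.Localization
import Mathlib.RingTheory.Ideal.MinimalPrime.Noetherian
import Mathlib.RingTheory.LocalRing.MaximalIdeal.Basic
import Mathlib.RingTheory.Localization.AtPrime.Basic

set_option autoImplicit false

namespace Groth.Agent.Dim1Local

open IsLocalRing

universe u

variable {A : Type u} [CommRing A]

/-- In a local ring of dimension at most one, an ideal contained in no minimal prime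
contains a power of the maximal ideal. -/
theorem exists_maximalIdeal_pow_le [IsLocalRing A] [IsNoetherianRing A]
    (hdim : ringKrullDim A ≤ 1) (J : Ideal A) (hJ : ∀ p ∈ minimalPrimes A, ¬ J ≤ p) :
    ∃ k : ℕ, maximalIdeal A ^ k ≤ J := by
  have hK : Ring.KrullDimLE 1 A := Ring.krullDimLE_iff.mpr (by exact_mod_cast hdim)
  have hrad : maximalIdeal A ≤ J.radical := by
    rw [Ideal.radical_eq_sInf]
    refine le_sInf ?_
    rintro p ⟨hJp, hp⟩
    rcases Ring.krullDimLE_one_iff.mp hK p hp with h | h
    · exact absurd hJp (hJ p h)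
    · exact (IsLocalRing.eq_maximalIdeal h).ge
  obtain ⟨n, hn⟩ := Ideal.exists_radical_pow_le_of_fg J J.radical.fg_of_isNoetherianRing
  exact ⟨n, (Ideal.pow_right_mono hrad n).trans hn⟩

/-- For two distinct minimal primes `p ≠ q` some element outside `q` becomes zero in `A_p`. -/
theorem exists_kills_localization (p q : Ideal A) [p.IsPrime] (hp : p ∈ minimalPrimes A)
    (hq : q ∈ minimalPrimes A) (hne : p ≠ q) :
    ∃ t : A, t ∉ q ∧ algebraMap A (Localization.AtPrime p) t = 0 := by
  haveI hqp : q.IsPrime := hq.1.1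
  have hnot : ¬ p ≤ q := fun h => hne (le_antisymm h (hq.2 hp.1 h))
  obtain ⟨x, hxp, hxq⟩ := SetLike.not_le_iff_exists.mp hnot
  have hsub := IsLocalization.subsingleton_primeSpectrum_of_mem_minimalPrimes p hp
    (Localization.AtPrime p)
  have hnil : IsNilpotent (algebraMap A (Localization.AtPrime p) x) := by
    rw [nilpotent_iff_mem_prime]
    intro P hP
    have : (⟨P, hP⟩ : PrimeSpectrum (Localization.AtPrime p)) =
        ⟨maximalIdeal _, inferInstance⟩ := Subsingleton.elim _ _
    rw [show P = maximalIdeal (Localization.AtPrime p) from congrArg PrimeSpectrum.asIdeal this]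
    exact (IsLocalization.AtPrime.to_map_mem_maximal_iff (Localization.AtPrime p) p x).mpr hxp
  obtain ⟨n, hn⟩ := hnil
  exact ⟨x ^ n, fun h => hxq (hqp.mem_of_pow_mem n h), by rw [map_pow]; exact hn⟩

/-- For finitely many elements of `∏ A_p` (over minimal primes), some power of the maximal ideal
multiplies each of them into the image of `A`. -/
theorem exists_pow_mul_mem_range [IsLocalRing A] [IsNoetherianRing A] (hdim : ringKrullDim A ≤ 1)
    (y : ∀ p : {p : PrimeSpectrum A // p.asIdeal ∈ minimalPrimes A},
      Localization.AtPrime p.1.asIdeal) :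
    ∃ k : ℕ, ∀ b ∈ maximalIdeal A ^ k,
      algebraMap A (∀ p : {p : PrimeSpectrum A // p.asIdeal ∈ minimalPrimes A},
        Localization.AtPrime p.1.asIdeal) b * y ∈ (algebraMap A (∀ p : {p : PrimeSpectrum A //
          p.asIdeal ∈ minimalPrimes A}, Localization.AtPrime p.1.asIdeal)).range := by
  classical
  let φ := algebraMap A (∀ p : {p : PrimeSpectrum A // p.asIdeal ∈ minimalPrimes A},
      Localization.AtPrime p.1.asIdeal)
  let C : Ideal A :=
    { carrier := {r | φ r * y ∈ φ.range}
      zero_mem' := ⟨0, by simp⟩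
      add_mem' := by
        rintro a b ⟨u, hu⟩ ⟨v, hv⟩
        exact ⟨u + v, by rw [map_add, map_add, add_mul, hu, hv]⟩
      smul_mem' := by
        rintro c a ⟨u, hu⟩
        exact ⟨c * u, by rw [smul_eq_mul, map_mul, map_mul, mul_assoc, hu]⟩ }
  have hC : ∀ q ∈ minimalPrimes A, ¬ C ≤ q := by
    intro q hq hle
    let q' : {p : PrimeSpectrum A // p.asIdeal ∈ minimalPrimes A} := ⟨⟨q, hq.1.1⟩, hq⟩
    haveI : q'.1.asIdeal.IsPrime := q'.1.isPrime
    obtain ⟨⟨x, s⟩, hxs⟩ := IsLocalization.surj q'.1.asIdeal.primeCompl (y q')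
    haveI : Finite {p : PrimeSpectrum A // p.asIdeal ∈ minimalPrimes A} := by
      haveI := (minimalPrimes.finite_of_isNoetherianRing A).to_subtype
      exact Finite.of_injective (β := minimalPrimes A) (fun p => ⟨p.1.asIdeal, p.2⟩)
        (fun a b h => Subtype.ext (PrimeSpectrum.ext (congrArg Subtype.val h)))
    haveI := Fintype.ofFinite {p : PrimeSpectrum A // p.asIdeal ∈ minimalPrimes A}
    have hk : ∀ p : {p : PrimeSpectrum A // p.asIdeal ∈ minimalPrimes A}, p ≠ q' → ∃ t : A,
        t ∉ q ∧ algebraMap A (Localization.AtPrime p.1.asIdeal) t = 0 := fun p hp =>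
      exists_kills_localization p.1.asIdeal q p.2 hq
        (fun h => hp (Subtype.ext (PrimeSpectrum.ext h)))
    choose t ht using hk
    let T : A := ∏ p, if h : p = q' then 1 else t p h
    have hTq : T ∉ q := by
      haveI := hq.1.1
      intro h
      obtain ⟨p, -, hp⟩ := (Ideal.IsPrime.prod_mem_iff (hp := hq.1.1)).mp h
      by_cases hpq : p = q'
      · rw [dif_pos hpq] at hp
        exact hq.1.1.ne_top ((Ideal.eq_top_iff_one q).mpr hp)
      · rw [dif_neg hpq] at hp
        exact (ht p hpq).1 hp
    have hmem : (s : A) * T ∈ C := by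
      refine ⟨x * T, ?_⟩
      funext p
      by_cases hpq : p = q'
      · subst hpq
        show algebraMap A _ (x * T) = algebraMap A _ ((s : A) * T) * y q'
        rw [map_mul, map_mul, ← hxs]
        ring
      · have hT : algebraMap A (Localization.AtPrime p.1.asIdeal) T = 0 := by
          rw [map_prod]
          refine Finset.prod_eq_zero (Finset.mem_univ p) ?_
          rw [dif_neg hpq]
          exact (ht p hpq).2
        show algebraMap A _ (x * T) = algebraMap A _ ((s : A) * T) * y p
        rw [map_mul, map_mul, hT]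
        simp
    rcases hq.1.1.mem_or_mem (hle hmem) with h | h
    · exact s.2 h
    · exact hTq h
  obtain ⟨k, hk⟩ := exists_maximalIdeal_pow_le hdim C hC
  exact ⟨k, fun b hb => hk hb⟩

end Groth.Agent.Dim1Local
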